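import Mathlib
import Cfsg.Agent.Lib.TwoFrobenius.Complement
import Cfsg.Agent.Lib.Frobenius.Theorem
import Cfsg.Agent.Lib.Frobenius.FPFThompson
import Cfsg.Agent.Lib.Spectrum.Solvable
import Cfsg.Agent.Lib.Characters.TIFN

/-!
# Groups with a Frobenius system: elementary structure

Every maximal solvable subgroup `M` carries a normal subgroup `F M`, a T.I. set on which `M` acts
without fixed points outside `F M`.
-/

set_option autoImplicit false
set_option linter.style.haveILetI false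

namespace CfsgLib.Suzuki.FrobSystem

open scoped Pointwise

universe u

variable {G : Type u} [Group G] [Finite G]

/-- a maximal solvable subgroup -/
def IsMaxSolv (M : Subgroup G) : Prop :=
  Group.IsSolvable M ∧ ∀ M' : Subgroup G, M < M' → ¬ Group.IsSolvable M'

/-- the hypothesis on `F` -/
def IsSystem (F : Subgroup G → Subgroup G) : Prop :=
  ∀ M : Subgroup G, IsMaxSolv M →
    F M ≤ M ∧ M ≤ Subgroup.normalizer (F M : Set G) ∧
    (∀ a ∈ M, a ∉ F M → ∀ x ∈ F M, x * a = a * x → x = 1) ∧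
    (∀ g : G, g ∉ M → F M ⊓ (MulAut.conj g • F M) = ⊥) ∧
    (F M ≠ ⊥ ∨ IsMulCommutative M)

omit [Finite G] in
theorem isSolvable_zpowers (g : G) : Group.IsSolvable (Subgroup.zpowers g) :=
  Group.isSolvable_of_comm fun a b => by
    obtain ⟨_, i, rfl⟩ := a
    obtain ⟨_, j, rfl⟩ := b
    exact Subtype.ext ((Commute.refl g).zpow_zpow i j)

theorem exists_maxSolv {S : Subgroup G} (hS : Group.IsSolvable S) :
    ∃ M, IsMaxSolv M ∧ S ≤ M := by
  haveI : Finite (Subgroup G) :=
    Finite.of_injective (fun U : Subgroup G => (U : Set G)) SetLike.coe_injective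
  obtain ⟨M, ⟨hM, hSM⟩, hmax⟩ := Set.Finite.exists_maximal
    (Set.toFinite {M : Subgroup G | Group.IsSolvable M ∧ S ≤ M}) ⟨S, hS, le_rfl⟩
  exact ⟨M, ⟨hM, fun M' hlt h' => hlt.not_ge (hmax ⟨h', hSM.trans hlt.le⟩ hlt.le)⟩, hSM⟩

theorem exists_maxSolv_mem (g : G) : ∃ M, IsMaxSolv M ∧ g ∈ M := by
  obtain ⟨M, hM, hle⟩ := exists_maxSolv (isSolvable_zpowers g)
  exact ⟨M, hM, hle (Subgroup.mem_zpowers g)⟩

omit [Finite G] in
theorem normalizer_eq {M : Subgroup G} (hM : IsMaxSolv M) :
    Subgroup.normalizer (M : Set G) = M := by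
  refine le_antisymm (fun g hg => ?_) Subgroup.le_normalizer
  set N := Subgroup.normalizer (M : Set G)
  let q := QuotientGroup.mk' (M.subgroupOf N)
  let H := (Subgroup.zpowers (q ⟨g, hg⟩)).comap q
  let H' := H.map N.subtype
  have hle : M ≤ H' := fun x hx => ⟨⟨x, Subgroup.le_normalizer hx⟩, by
    show q _ ∈ Subgroup.zpowers _
    rw [show q ⟨x, Subgroup.le_normalizer hx⟩ = 1 from (QuotientGroup.eq_one_iff _).2 hx]
    exact one_mem _, rfl⟩
  have hgH : g ∈ H' := ⟨⟨g, hg⟩, Subgroup.mem_zpowers _, rfl⟩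
  have hsH : Group.IsSolvable H := by
    haveI : Group.IsSolvable M := hM.1
    haveI : Group.IsSolvable (Subgroup.zpowers (q ⟨g, hg⟩)) := isSolvable_zpowers _
    refine Group.isSolvable_of_ker_le_range
      (MonoidHom.codRestrict (Subgroup.inclusion Subgroup.le_normalizer : M →* N) H fun x => ?_)
      ((q.comp H.subtype).codRestrict (Subgroup.zpowers (q ⟨g, hg⟩)) fun x => x.2) ?_
    · show q _ ∈ Subgroup.zpowers _
      rw [show q (Subgroup.inclusion Subgroup.le_normalizer x) = 1 from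
        (QuotientGroup.eq_one_iff _).2 x.2]
      exact one_mem _
    · intro x hx
      have hx1 : q (x : N) = 1 := congrArg Subtype.val hx
      exact ⟨⟨((x : N) : G), (QuotientGroup.eq_one_iff (N := M.subgroupOf N) (x : N)).1 hx1⟩,
        Subtype.ext (Subtype.ext rfl)⟩
  have hsH' : Group.IsSolvable H' :=
    Group.isSolvable_of_surjective (hf := (H.equivMapOfInjective N.subtype N.subtype_injective).surjective)
      (f := (H.equivMapOfInjective N.subtype N.subtype_injective).toMonoidHom)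
  by_contra hgM
  exact hM.2 H' (lt_of_le_of_ne hle fun e => hgM (e ▸ hgH)) hsH'

/-- a Frobenius group with a solvable complement is solvable -/
theorem isSolvable_of_complement {X : Type u} [Group X] [Finite X] {H : Subgroup X}
    (hH : Cfsg.IsFrobeniusComplement H) (hs : Group.IsSolvable H) : Group.IsSolvable X := by
  obtain ⟨N, -, hN, hc⟩ := CfsgLib.Frobenius.exists_normal_kernel hH
  haveI := hN
  haveI := CfsgLib.TwoFrobenius.isNilpotent_kernel hH hc
  have hsN : Group.IsSolvable N := inferInstance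
  refine (Group.isSolvable_iff_subgroup_quotient N).2 ⟨hsN, ?_⟩
  haveI := hs
  refine Group.isSolvable_of_surjective (f := (QuotientGroup.mk' N).comp H.subtype) (hf := fun x => ?_)
  obtain ⟨y, rfl⟩ := QuotientGroup.mk'_surjective N x
  obtain ⟨n, h, rfl⟩ : ∃ (n : N) (h : H), (n : X) * h = y :=
    ⟨_, _, ((hc.existsUnique y).exists.choose_spec)⟩
  exact ⟨h, by
    show QuotientGroup.mk' N (h : X) = _
    rw [map_mul, show QuotientGroup.mk' N (n : X) = 1 from (QuotientGroup.eq_one_iff _).2 n.2, one_mul]⟩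

omit [Finite G] in
theorem eq_one_of_eq_bot {D : Subgroup G} (hD : D = ⊥) {g : G} (h : g ∈ D) : g = 1 := by
  rw [hD] at h; exact Subgroup.mem_bot.1 h

variable {F : Subgroup G → Subgroup G}

/-- a trivial intersection maximal solvable subgroup makes the group solvable -/
theorem isSolvable_of_ti {M : Subgroup G} (hM : IsMaxSolv M)
    (hTI : ∀ g : G, g ∉ M → M ⊓ (MulAut.conj g • M) = ⊥) : Group.IsSolvable G := by
  by_cases hbot : M = ⊥
  · haveI : Subsingleton G := ⟨fun x y => by
      obtain ⟨Mx, hMx, hx⟩ := exists_maxSolv_mem x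
      obtain ⟨My, hMy, hy⟩ := exists_maxSolv_mem y
      have h1 : ∀ N, IsMaxSolv N → N = ⊥ := fun N hN => by
        by_contra hne
        exact hM.2 N (hbot ▸ bot_lt_iff_ne_bot.2 hne) hN.1
      rw [eq_one_of_eq_bot (h1 _ hMx) hx, eq_one_of_eq_bot (h1 _ hMy) hy]⟩
    exact Group.isSolvable_of_comm fun a b => Subsingleton.elim _ _
  by_cases htop : M = ⊤
  · haveI : Group.IsSolvable M := hM.1
    exact Group.isSolvable_of_surjective (f := M.subtype) (hf := fun x => ⟨⟨x, htop ▸ Subgroup.mem_top x⟩, rfl⟩)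
  exact isSolvable_of_complement ⟨hbot, htop, hTI⟩ hM.1

/-- in a non-solvable group no `F M` is trivial -/
theorem ne_bot (hF : IsSystem F) (hns : ¬ Group.IsSolvable G) {M : Subgroup G} (hM : IsMaxSolv M) :
    F M ≠ ⊥ := by
  classical
  intro hbot
  have hab : IsMulCommutative M := ((hF M hM).2.2.2.2).resolve_left (fun h => h hbot)
  cases nonempty_fintype G
  by_cases hex : ∃ g : G, g ∉ M ∧ M ⊓ (MulAut.conj g • M) ≠ ⊥
  swap
  · push Not at hex
    exact hns (isSolvable_of_ti hM hex)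
  obtain ⟨g, hg, hgmax⟩ := Finset.exists_max_image
    (Finset.univ.filter fun g : G => g ∉ M ∧ M ⊓ (MulAut.conj g • M) ≠ ⊥)
    (fun g => Nat.card (M ⊓ (MulAut.conj g • M) : Subgroup G))
    (hex.elim fun g h => ⟨g, Finset.mem_filter.2 ⟨Finset.mem_univ _, h⟩⟩)
  rw [Finset.mem_filter] at hg
  obtain ⟨-, hgM, hDne⟩ := hg
  set D := M ⊓ (MulAut.conj g • M) with hD
  set C := Subgroup.centralizer (D : Set G) with hC
  have hMC : M ≤ C := fun x hx => Subgroup.mem_centralizer_iff.2 fun d hd =>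
    congrArg Subtype.val (hab.is_comm.comm ⟨d, hd.1⟩ ⟨x, hx⟩)
  have hgC : MulAut.conj g • M ≤ C := by
    intro x hx
    refine Subgroup.mem_centralizer_iff.2 fun d hd => ?_
    have hd' := CfsgLib.Frobenius.mem_conj_smul_iff.1 hd.2
    have hx' := CfsgLib.Frobenius.mem_conj_smul_iff.1 hx
    have e := congrArg (fun y : M => g * (y : G) * g⁻¹) (hab.is_comm.comm ⟨_, hd'⟩ ⟨_, hx'⟩)
    simp only [Subgroup.coe_mul] at e
    calc d * x = g * (g⁻¹ * d * g * (g⁻¹ * x * g)) * g⁻¹ := by group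
      _ = g * (g⁻¹ * x * g * (g⁻¹ * d * g)) * g⁻¹ := e
      _ = x * d := by group
  have hne : ¬ MulAut.conj g • M ≤ M := fun h => by
    have heq : MulAut.conj g • M = M := Subgroup.eq_of_le_of_card_ge h
      (le_of_eq (Nat.card_congr (Subgroup.equivSMul _ M).toEquiv))
    refine hgM (normalizer_eq hM ▸ Subgroup.mem_normalizer_iff.2 fun x => ⟨fun hx => ?_, fun hx => ?_⟩)
    · rw [← heq]
      exact CfsgLib.Frobenius.mem_conj_smul_iff.2 (by simpa [mul_assoc] using hx)
    · rw [← heq] at hx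
      simpa [mul_assoc] using CfsgLib.Frobenius.mem_conj_smul_iff.1 hx
  let D' := D.subgroupOf C
  haveI : D'.Normal := ⟨fun d hd c => by
    show (c : G) * d * (c : G)⁻¹ ∈ D
    rw [← Subgroup.mem_centralizer_iff.1 c.2 d hd, mul_inv_cancel_right]
    exact hd⟩
  have hDsol : Group.IsSolvable D' := Group.isSolvable_of_comm fun a b => Subtype.ext (Subtype.ext
    (Subgroup.mem_centralizer_iff.1 b.1.2 _ a.2))
  let q := QuotientGroup.mk' D'
  let Mb := (M.subgroupOf C).map q
  have hmemMb : ∀ x : C, q x ∈ Mb → (x : G) ∈ M := by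
    rintro x ⟨y, hy, e⟩
    have e1 : ((y⁻¹ * x : C) : G) ∈ D := (QuotientGroup.eq (s := D')).1 e
    have e2 : (x : G) = y * (y⁻¹ * x : C) := by simp
    rw [e2]
    exact M.mul_mem hy e1.1
  have hMsol : Group.IsSolvable Mb := by
    haveI : Group.IsSolvable (M.subgroupOf C) := Group.isSolvable_of_comm fun a b => Subtype.ext
      (Subtype.ext (congrArg Subtype.val
        (hab.is_comm.comm (⟨((a : C) : G), a.2⟩ : M) ⟨((b : C) : G), b.2⟩) : ((a : C) : G) * ((b : C) : G) = _))
    exact Group.isSolvable_of_surjective (f := q.subgroupMap (M.subgroupOf C))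
      (hf := q.subgroupMap_surjective _)
  have hfrob : Cfsg.IsFrobeniusComplement Mb := by
    refine ⟨fun h => hne ?_, fun h => hne fun x hx => ?_, fun c hc => ?_⟩
    · have hMD : M ≤ D := fun x hx => (QuotientGroup.eq_one_iff (⟨x, hMC hx⟩ : C)).1
        (eq_one_of_eq_bot h ⟨⟨x, hMC hx⟩, hx, rfl⟩)
      have heq : MulAut.conj g • M = M := (Subgroup.eq_of_le_of_card_ge (hMD.trans inf_le_right)
        (le_of_eq (Nat.card_congr (Subgroup.equivSMul _ M).toEquiv.symm))).symm
      exact heq.le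
    · exact hmemMb ⟨x, hgC hx⟩ (h ▸ Subgroup.mem_top _)
    · obtain ⟨c, rfl⟩ := QuotientGroup.mk'_surjective D' c
      have hcM : (c : G) ∉ M := fun h => hc ⟨c, h, rfl⟩
      rw [eq_bot_iff]
      rintro z ⟨⟨x, hx, rfl⟩, hz2⟩
      rw [Subgroup.mem_bot]
      have hz' := CfsgLib.Frobenius.mem_conj_smul_iff.1 hz2
      rw [← map_inv, ← map_mul, ← map_mul] at hz'
      have hxc : (c : G)⁻¹ * x * c ∈ M := hmemMb _ hz'
      have hDle : D ≤ M ⊓ (MulAut.conj (c : G) • M) := fun d hd => ⟨hd.1,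
        CfsgLib.Frobenius.mem_conj_smul_iff.2 (by
          rw [mul_assoc, Subgroup.mem_centralizer_iff.1 c.2 d hd, ← mul_assoc, inv_mul_cancel, one_mul]
          exact hd.1)⟩
      have hDe : D = M ⊓ (MulAut.conj (c : G) • M) := Subgroup.eq_of_le_of_card_ge hDle
        (hgmax (c : G) (Finset.mem_filter.2 ⟨Finset.mem_univ _, hcM,
          fun h => hDne (eq_bot_iff.2 (hDle.trans h.le))⟩))
      refine (QuotientGroup.eq_one_iff x).2 ?_
      show (x : G) ∈ D
      rw [hDe]
      exact ⟨hx, CfsgLib.Frobenius.mem_conj_smul_iff.2 hxc⟩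
  have hCsol : Group.IsSolvable C := (Group.isSolvable_iff_subgroup_quotient D').2
    ⟨hDsol, isSolvable_of_complement hfrob hMsol⟩
  rcases eq_or_lt_of_le hMC with h | h
  · exact hne (hgC.trans h.ge)
  · exact hM.2 C h hCsol

theorem lt_maxSolv (hF : IsSystem F) (hns : ¬ Group.IsSolvable G) {M : Subgroup G} (hM : IsMaxSolv M) :
    F M < M := by
  refine lt_of_le_of_ne (hF M hM).1 fun h => hns (isSolvable_of_ti hM fun g hg => ?_)
  have := (hF M hM).2.2.2.1 g hg
  rwa [h] at this

/-- there is no non-trivial solvable normal subgroup -/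
theorem normal_solvable_eq_bot (hF : IsSystem F) (hns : ¬ Group.IsSolvable G) {N : Subgroup G}
    [hN : N.Normal] (hs : Group.IsSolvable N) : N = ⊥ := by
  by_contra hne
  obtain ⟨V, r, -, hV, hVne, -, hVc, -⟩ := CfsgLib.Spectrum.exists_normal_elementary_le N hne hs
  have hVs : Group.IsSolvable V := Group.isSolvable_of_comm fun a b => hVc.is_comm.comm a b
  have hle : ∀ M, IsMaxSolv M → V ≤ F M := by
    intro M hM
    have hNM : V ≤ M := by
      by_contra hnot
      have hs' : Group.IsSolvable ↥(M ⊔ V) := by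
        haveI : (V.subgroupOf (M ⊔ V)).Normal := hV.subgroupOf _
        refine (Group.isSolvable_iff_subgroup_quotient (V.subgroupOf (M ⊔ V))).2 ⟨?_, ?_⟩
        · haveI := hVs
          exact Group.isSolvable_of_surjective
            (f := (Subgroup.subgroupOfEquivOfLe (le_sup_right : V ≤ M ⊔ V)).symm.toMonoidHom)
            (hf := (Subgroup.subgroupOfEquivOfLe (le_sup_right : V ≤ M ⊔ V)).symm.surjective)
        · haveI : Group.IsSolvable M := hM.1
          refine Group.isSolvable_of_surjective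
            (f := (QuotientGroup.mk' (V.subgroupOf (M ⊔ V))).comp
              (Subgroup.inclusion (le_sup_left : M ≤ M ⊔ V))) (hf := fun x => ?_)
          obtain ⟨⟨y, hy⟩, rfl⟩ := QuotientGroup.mk'_surjective _ x
          obtain ⟨m, hm, n, hn, rfl⟩ := Subgroup.mem_sup_of_normal_right.1 hy
          exact ⟨⟨m, hm⟩, QuotientGroup.eq.2 (by
            show m⁻¹ * (m * n) ∈ V
            rwa [inv_mul_cancel_left])⟩
      exact hM.2 _ (lt_of_le_of_ne le_sup_left fun h => hnot (le_sup_right.trans h.ge)) hs'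
    obtain ⟨-, hnorm, hfree, -, -⟩ := hF M hM
    intro v hv
    by_contra hvF
    refine ne_bot hF hns hM ((Subgroup.eq_bot_iff_forall _).2 fun x hx => hfree v (hNM hv) hvF x hx ?_)
    -- the commutator lies in `V ⊓ F M`, which is trivial
    have hc1 : x * v * x⁻¹ * v⁻¹ ∈ V := V.mul_mem (hV.conj_mem v hv x) (V.inv_mem hv)
    have hc2 : x * v * x⁻¹ * v⁻¹ ∈ F M := by
      rw [show x * v * x⁻¹ * v⁻¹ = x * (v * x⁻¹ * v⁻¹) by group]
      exact (F M).mul_mem hx ((Subgroup.mem_normalizer_iff.1 (hnorm (hNM hv)) _).1 ((F M).inv_mem hx))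
    exact commutatorElement_eq_one_iff_mul_comm.1 (hfree v (hNM hv) hvF _ hc2
      (congrArg Subtype.val (hVc.is_comm.comm ⟨_, hc1⟩ ⟨v, hv⟩)))
  obtain ⟨M, hM, -⟩ := exists_maxSolv_mem (1 : G)
  obtain ⟨g, hg⟩ : ∃ g, g ∉ M := by
    by_contra! hall
    haveI : Group.IsSolvable M := hM.1
    exact hns (Group.isSolvable_of_surjective (f := M.subtype) (hf := fun x => ⟨⟨x, hall x⟩, rfl⟩))
  refine hVne (eq_bot_iff.2 fun v hv => ?_)
  rw [← (hF M hM).2.2.2.1 g hg]
  exact ⟨hle M hM hv, CfsgLib.Frobenius.mem_conj_smul_iff.2 (hle M hM (hV.conj_mem' v hv g))⟩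

end CfsgLib.Suzuki.FrobSystem
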