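import Mathlib
import Cfsg.Agent.Lib.Suzuki.FrobSystem.Basic
import Cfsg.Agent.Lib.Involutions.BrauerSuzuki
import Cfsg.Agent.Lib.Involutions.StronglyEmbedded
import Cfsg.Agent.Lib.PCore.Basic
import Cfsg.Agent.Lib.PF.OddOrder
import Cfsg.Prelude.Def_Involutions

/-!
# Groups with a Frobenius system: a maximal solvable subgroup is strongly embedded
-/

set_option autoImplicit false
set_option linter.style.haveILetI false

namespace CfsgLib.Suzuki.FrobSystem

open scoped Pointwise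
open CfsgLib.Involutions (orderOf_conj_eq)

universe u

variable {G : Type u} [Group G] [Finite G] {F : Subgroup G → Subgroup G}

omit [Finite G] in
theorem mem_of_conj (hF : IsSystem F) {M : Subgroup G} (hM : IsMaxSolv M) {f g : G} (hf : f ∈ F M)
    (hf1 : f ≠ 1) (hg : g⁻¹ * f * g ∈ F M) : g ∈ M := by
  by_contra hgM
  exact hf1 (eq_one_of_eq_bot ((hF M hM).2.2.2.1 g hgM)
    ⟨hf, CfsgLib.Frobenius.mem_conj_smul_iff.2 hg⟩)

omit [Finite G] in
theorem centralizer_le (hF : IsSystem F) {M : Subgroup G} (hM : IsMaxSolv M) {f : G} (hf : f ∈ F M)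
    (hf1 : f ≠ 1) : Subgroup.centralizer ({f} : Set G) ≤ F M := by
  intro c hc
  rw [Subgroup.mem_centralizer_singleton_iff] at hc
  have hcM : c ∈ M := mem_of_conj hF hM hf hf1 (by rwa [mul_assoc, ← hc, inv_mul_cancel_left])
  by_contra hcF
  exact hf1 ((hF M hM).2.2.1 c hcM hcF f hf hc.symm)

theorem normalizer_core (hF : IsSystem F) (hns : ¬ Group.IsSolvable G) {M : Subgroup G}
    (hM : IsMaxSolv M) : Subgroup.normalizer (F M : Set G) = M := by
  refine le_antisymm (fun g hg => ?_) (hF M hM).2.1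
  obtain ⟨f, hf, hf1⟩ := (Subgroup.ne_bot_iff_exists_ne_one.1 (ne_bot hF hns hM)).elim
    fun f h => (⟨(f : G), f.2, fun e => h (Subtype.ext e)⟩ : ∃ f, f ∈ F M ∧ f ≠ 1)
  refine mem_of_conj hF hM hf hf1 ?_
  have := (Subgroup.mem_normalizer_iff''.1 hg f).1 hf
  exact this

theorem coprime_core (hF : IsSystem F) {M : Subgroup G} (hM : IsMaxSolv M) :
    (Nat.card (F M)).Coprime (F M).index := by
  refine CfsgLib.TIFN.coprime_index (fun g hg k hk hgk => ?_)
    (fun k hk hk1 => centralizer_le hF hM hk hk1)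
  by_contra hk1
  refine hg ((hF M hM).2.1 ?_)
  have := mem_of_conj hF hM hk hk1 (g := g⁻¹) (by rwa [inv_inv])
  exact (Subgroup.inv_mem_iff M).1 this

theorem mem_core_of_coprime (hF : IsSystem F) {M : Subgroup G} (hM : IsMaxSolv M) {x : G}
    (hx : x ∈ M) (hdvd : orderOf x ∣ Nat.card (F M)) : x ∈ F M := by
  haveI : ((F M).subgroupOf M).Normal :=
    Subgroup.normal_subgroupOf_of_le_normalizer (hF M hM).2.1
  have h1 : orderOf (QuotientGroup.mk' ((F M).subgroupOf M) ⟨x, hx⟩) ∣ Nat.card (F M) :=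
    (orderOf_map_dvd _ _).trans (by rwa [Subgroup.orderOf_mk])
  have h2 : orderOf (QuotientGroup.mk' ((F M).subgroupOf M) ⟨x, hx⟩) ∣ (F M).index :=
    (orderOf_dvd_natCard _).trans (Subgroup.relIndex_dvd_index_of_le (hF M hM).1)
  have h3 := Nat.eq_one_of_dvd_coprimes (coprime_core hF hM) h1 h2
  rw [orderOf_eq_one_iff] at h3
  exact (QuotientGroup.eq_one_iff (⟨x, hx⟩ : M)).1 h3

theorem exists_prime_outside (hF : IsSystem F) (hns : ¬ Group.IsSolvable G) {M : Subgroup G}
    (hM : IsMaxSolv M) : ∃ (a : G) (p : ℕ), p.Prime ∧ a ^ p = 1 ∧ a ∈ M ∧ a ∉ F M := by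
  obtain ⟨x, hxM, hxF⟩ := SetLike.exists_of_lt (lt_maxSolv hF hns hM)
  have hex : ∃ n, 0 < n ∧ x ^ n ∈ F M :=
    ⟨orderOf x, orderOf_pos x, by rw [pow_orderOf_eq_one]; exact one_mem _⟩
  classical
  obtain ⟨hn0, hnF⟩ := Nat.find_spec hex
  have hn1 : Nat.find hex ≠ 1 := fun e => hxF (by rwa [e, pow_one] at hnF)
  obtain ⟨p, hp, m, hm⟩ := Nat.exists_prime_and_dvd hn1
  have hm0 : 0 < m := Nat.pos_of_ne_zero fun e => by
    rw [e, mul_zero] at hm
    omega
  have haF : x ^ m ∉ F M := fun h => by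
    have := Nat.find_min' hex ⟨hm0, h⟩
    have := hp.two_le
    nlinarith
  refine ⟨x ^ m, p, hp, ?_, M.pow_mem hxM m, haF⟩
  have e : (x ^ m) ^ p = x ^ Nat.find hex := by rw [← pow_mul, mul_comm, ← hm]
  rw [e]
  exact (hF M hM).2.2.1 (x ^ m) (M.pow_mem hxM m) haF _ hnF ((Commute.refl x).pow_pow _ _).eq

theorem isNilpotent_core (hF : IsSystem F) (hns : ¬ Group.IsSolvable G) {M : Subgroup G}
    (hM : IsMaxSolv M) : Group.IsNilpotent (F M) := by
  obtain ⟨a, p, hp, hap, haM, haF⟩ := exists_prime_outside hF hns hM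
  exact CfsgLib.Frobenius.Thompson.isNilpotent_of_element (F M) ((hF M hM).2.1 haM) hp hap
    fun k hk hc => (hF M hM).2.2.1 a haM haF k hk hc.symm

/-- an involution of `M` outside `F M` inverts `F M` -/
theorem inverts (hF : IsSystem F) {M : Subgroup G} (hM : IsMaxSolv M) {s : G} (hs : orderOf s = 2)
    (hsM : s ∈ M) (hsF : s ∉ F M) {k : G} (hk : k ∈ F M) : s * k * s⁻¹ = k⁻¹ := by
  obtain ⟨-, hnorm, hfree, -, -⟩ := hF M hM
  have hn : ∀ x : F M, MulAut.conj s (x : G) ∈ F M := fun x =>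
    (Subgroup.mem_normalizer_iff.1 (hnorm hsM) _).1 x.2
  let φ : F M →* F M := MonoidHom.codRestrict ((MulAut.conj s).toMonoidHom.comp (F M).subtype) (F M) hn
  have hfp : MonoidHom.FixedPointFree φ := fun x hx => by
    have e : s * (x : G) * s⁻¹ = x := congrArg Subtype.val hx
    exact Subtype.ext (hfree s hsM hsF x x.2 (by
      conv_lhs => rw [← e]
      rw [inv_mul_cancel_right]))
  have hinv : Function.Involutive φ := fun x => Subtype.ext (by
    show s * (s * (x : G) * s⁻¹) * s⁻¹ = x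
    have h2 : s * s = 1 := by rw [← sq, ← hs, pow_orderOf_eq_one]
    calc s * (s * (x : G) * s⁻¹) * s⁻¹ = (s * s) * x * (s * s)⁻¹ := by group
      _ = x := by rw [h2]; simp)
  exact congrArg Subtype.val (congrFun (MonoidHom.FixedPointFree.coe_eq_inv_of_involutive hfp hinv) ⟨k, hk⟩)

/-- some `F M` has even order -/
theorem exists_even (hF : IsSystem F) (hns : ¬ Group.IsSolvable G) :
    ∃ M, IsMaxSolv M ∧ Even (Nat.card (F M)) := by
  haveI : Fact (Nat.Prime 2) := ⟨Nat.prime_two⟩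
  obtain ⟨P⟩ : Nonempty (Sylow 2 G) := inferInstance
  obtain ⟨M, hM, hPM⟩ := exists_maxSolv (S := (P : Subgroup G))
    (by haveI := P.isPGroup'.isNilpotent; infer_instance)
  refine ⟨M, hM, ?_⟩
  by_contra hodd
  rw [Nat.not_even_iff_odd] at hodd
  have hdisj : ∀ x ∈ (P : Subgroup G), x ∈ F M → x = 1 := fun x hx hxF => by
    obtain ⟨j, hj⟩ := (IsPGroup.iff_orderOf.1 P.isPGroup') ⟨x, hx⟩
    rw [Subgroup.orderOf_mk] at hj
    have h2 : orderOf x ∣ Nat.card (F M) := Subgroup.orderOf_dvd_natCard _ hxF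
    rw [hj] at h2
    rcases j with _ | j
    · exact orderOf_eq_one_iff.1 (by rw [hj, pow_zero])
    · exact absurd ((dvd_pow_self 2 j.succ_ne_zero).trans h2) (fun hd =>
        (Nat.not_even_iff_odd.2 hodd) (even_iff_two_dvd.2 hd))
  obtain ⟨f, hf, hf1⟩ : ∃ f ∈ F M, f ≠ 1 := by
    by_contra! hall
    exact ne_bot hF hns hM ((Subgroup.eq_bot_iff_forall _).2 hall)
  have huniq : ∀ a b : (P : Subgroup G), orderOf a = 2 → orderOf b = 2 → a = b := by
    intro a b ha hb
    rw [← Subgroup.orderOf_coe] at ha hb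
    have haF : (a : G) ∉ F M := fun h => by rw [hdisj a a.2 h, orderOf_one] at ha; omega
    have hbF : (b : G) ∉ F M := fun h => by rw [hdisj b b.2 h, orderOf_one] at hb; omega
    have e1 := inverts hF hM ha (hPM a.2) haF hf
    have e2 := inverts hF hM hb (hPM b.2) hbF hf
    have e3 : ((a : G)⁻¹ * b) * f = f * ((a : G)⁻¹ * b) := by
      have e4 : (b : G) * f * (b : G)⁻¹ = (a : G) * f * (a : G)⁻¹ := e2.trans e1.symm
      calc ((a : G)⁻¹ * b) * f = (a : G)⁻¹ * ((b : G) * f * (b : G)⁻¹) * b := by group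
        _ = f * ((a : G)⁻¹ * b) := by rw [e4]; group
    have h4 : (a : G)⁻¹ * b ∈ F M :=
      centralizer_le hF hM hf hf1 (Subgroup.mem_centralizer_singleton_iff.2 e3)
    exact Subtype.ext (inv_mul_eq_one.1 (hdisj _ (mul_mem (inv_mem a.2) b.2) h4))
  have heven : 2 ∣ Nat.card G := by
    by_contra h
    exact hns (CfsgLib.PF.oddSolvable G (Nat.not_even_iff_odd.1 fun he => h he.two_dvd))
  obtain ⟨z, hz⟩ := exists_prime_orderOf_dvd_card' 2 heven
  have hiso : Cfsg.IsIsolatedInvolution z := ⟨hz, fun g hg =>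
    (CfsgLib.Involutions.rank_one_of_sylow P huniq _ _ hz ((orderOf_conj_eq g z).trans hz) hg).symm⟩
  have hzs := CfsgLib.Involutions.zstar G z hiso
  have hcore : Cfsg.pPrimeCore 2 G = ⊥ := CfsgLib.PCore.pPrimeCore_eq_bot_iff.2 fun N hN hcop => by
    haveI := hN
    exact normal_solvable_eq_bot hF hns (CfsgLib.PF.oddSolvable _
      (Nat.not_even_iff_odd.1 fun he => (Nat.prime_two.coprime_iff_not_dvd.1 hcop.symm) he.two_dvd))
  have hc : ∀ g, g * z = z * g := fun g => by
    have := eq_one_of_eq_bot hcore (hzs g)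
    rw [mul_inv_eq_one] at this
    exact mul_inv_eq_iff_eq_mul.1 this
  haveI : (Subgroup.zpowers z).Normal := ⟨fun x hx g => by
    obtain ⟨i, rfl⟩ := hx
    show g * z ^ i * g⁻¹ ∈ _
    rw [(show Commute g z from hc g).zpow_right i, mul_inv_cancel_right]
    exact ⟨i, rfl⟩⟩
  have hzb := normal_solvable_eq_bot hF hns (isSolvable_zpowers z)
  rw [Subgroup.zpowers_eq_bot] at hzb
  rw [hzb, orderOf_one] at hz
  omega

/-- the involutions of `M` lie in `F M` when this has even order -/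
theorem involution_mem_core (hF : IsSystem F) {M : Subgroup G} (hM : IsMaxSolv M)
    (he : Even (Nat.card (F M))) {t : G} (htM : t ∈ M) (ht : orderOf t = 2) : t ∈ F M :=
  mem_core_of_coprime hF hM htM (ht ▸ he.two_dvd)

theorem isStronglyEmbedded (hF : IsSystem F) (hns : ¬ Group.IsSolvable G) {M : Subgroup G}
    (hM : IsMaxSolv M) (he : Even (Nat.card (F M))) : Cfsg.IsStronglyEmbedded M := by
  rw [CfsgLib.Involutions.isStronglyEmbedded_iff]
  refine ⟨fun htop => hns ?_, even_iff_two_dvd.2 (he.two_dvd.trans (Subgroup.card_dvd_of_le (hF M hM).1)),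
    fun g hg t htM ht htg => hg ?_⟩
  · haveI : Group.IsSolvable M := hM.1
    exact Group.isSolvable_of_surjective (f := M.subtype) (hf := fun x => ⟨⟨x, htop ▸ Subgroup.mem_top x⟩, rfl⟩)
  · refine mem_of_conj hF hM (involution_mem_core hF hM he htM ht) (fun e => ?_)
      (involution_mem_core hF hM he htg ?_)
    · rw [e, orderOf_one] at ht; omega
    · simpa using (orderOf_conj_eq g⁻¹ t).trans ht

end CfsgLib.Suzuki.FrobSystem
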