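import Mathlib
import Cfsg.Agent.Lib.Suzuki.FrobSystem.Structure
import Cfsg.Agent.Lib.StrongEmbedding.Swap
import Cfsg.Agent.Lib.Frobenius.Conjugacy
import Cfsg.Prelude.Def_LieExceptional

/-!
# Groups with a Frobenius system: the action on the cosets of a maximal solvable subgroup
-/

set_option autoImplicit false
set_option linter.style.haveILetI false
set_option linter.unusedSectionVars false

namespace CfsgLib.Suzuki.FrobSystem

open scoped Pointwise
open CfsgLib.Involutions (orderOf_conj_eq se_centralizer_le)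
open MulAction

universe u

variable {G : Type u} [Group G] [Finite G] {F : Subgroup G → Subgroup G} {M : Subgroup G}

/-- the standing hypothesis of this file -/
structure Even' (F : Subgroup G → Subgroup G) (M : Subgroup G) : Prop where
  sys : IsSystem F
  ns : ¬ Group.IsSolvable G
  max : IsMaxSolv M
  even : Even (Nat.card (F M))

/-- the base point -/
abbrev base (M : Subgroup G) : G ⧸ M := ((1 : G) : G ⧸ M)

/-- the stabiliser of the base point and `y` -/
abbrev twoPt (M : Subgroup G) (y : G ⧸ M) : Subgroup G :=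
  stabilizer G (base M) ⊓ stabilizer G y

omit [Finite G] in
theorem stab_base (M : Subgroup G) : stabilizer G (base M) = M := stabilizer_quotient M

omit [Finite G] in
theorem mem_twoPt {y : G ⧸ M} {d : G} : d ∈ twoPt M y ↔ d • base M = base M ∧ d • y = y := Iff.rfl

omit [Finite G] in
theorem mem_M_iff {g : G} : g ∈ M ↔ g • base M = base M := by
  rw [← mem_stabilizer_iff, stab_base]

namespace Even'

variable (h : Even' F M)
include h

theorem se : Cfsg.IsStronglyEmbedded M := isStronglyEmbedded h.sys h.ns h.max h.even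

theorem core_le : F M ≤ M := (h.sys M h.max).1

theorem norm_mem {m f : G} (hm : m ∈ M) (hf : f ∈ F M) : m * f * m⁻¹ ∈ F M :=
  (Subgroup.mem_normalizer_iff.1 ((h.sys M h.max).2.1 hm) f).1 hf

theorem inf_eq_bot {y : G ⧸ M} (hy : y ≠ base M) {d : G} (hd : d ∈ twoPt M y) (hdF : d ∈ F M) :
    d = 1 := by
  obtain ⟨g, rfl⟩ := QuotientGroup.mk_surjective y
  by_contra hd1
  have hdy : g⁻¹ * d * g ∈ M := CfsgLib.Involutions.smul_coset_eq_iff.1 hd.2
  have hord : orderOf (g⁻¹ * d * g) = orderOf d := by simpa using orderOf_conj_eq g⁻¹ d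
  have hmem := mem_core_of_coprime h.sys h.max hdy (hord ▸ Subgroup.orderOf_dvd_natCard _ hdF)
  refine hy (QuotientGroup.eq.2 ?_)
  rw [mul_one]
  exact inv_mem (mem_of_conj h.sys h.max hdF hd1 hmem)

theorem commute_free {a f : G} (ha : a ∈ M) (haF : a ∉ F M) (hf : f ∈ F M) (hc : f * a = a * f) :
    f = 1 := (h.sys M h.max).2.2.1 a ha haF f hf hc

theorem exists_central_involution :
    ∃ s ∈ F M, orderOf s = 2 ∧ ∀ f ∈ F M, f * s = s * f := by
  haveI : Fact (Nat.Prime 2) := ⟨Nat.prime_two⟩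
  haveI := isNilpotent_core h.sys h.ns h.max
  obtain ⟨Q⟩ : Nonempty (Sylow 2 (F M)) := inferInstance
  haveI : (Q : Subgroup (F M)).Normal :=
    (Group.isNilpotent_of_finite_tfae.out 0 3 rfl rfl |>.mp (isNilpotent_core h.sys h.ns h.max)) 2 ⟨Nat.prime_two⟩ Q
  haveI : Nontrivial (Q : Subgroup (F M)) := (Subgroup.nontrivial_iff_ne_bot _).2 fun e => by
    have := Q.dvd_card_of_dvd_card h.even.two_dvd
    rw [e, Subgroup.card_bot] at this
    omega
  haveI := Q.isPGroup'.center_nontrivial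
  have hev : 2 ∣ Nat.card (Subgroup.center (Q : Subgroup (F M))) := by
    obtain ⟨j, hj⟩ := (Q.isPGroup'.to_subgroup (Subgroup.center (Q : Subgroup (F M)))).exists_card_eq
    rcases j with _ | j
    · rw [pow_zero] at hj
      exact absurd hj (ne_of_gt Finite.one_lt_card)
    · exact hj ▸ dvd_pow_self 2 j.succ_ne_zero
  obtain ⟨z₀, hz⟩ := exists_prime_orderOf_dvd_card' 2 hev
  rw [← Subgroup.orderOf_coe, ← Subgroup.orderOf_coe] at hz
  set z : F M := ((z₀ : (Q : Subgroup (F M))) : F M)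
  set C := Subgroup.centralizer ({z} : Set (F M)) with hC
  have htop : C = ⊤ := by
    rw [← Subgroup.index_eq_one]
    by_contra hne
    obtain ⟨r, hr, hri⟩ := Nat.exists_prime_and_dvd hne
    haveI : Fact r.Prime := ⟨hr⟩
    obtain ⟨R⟩ : Nonempty (Sylow r (F M)) := inferInstance
    refine R.not_dvd_index (hri.trans (Subgroup.index_dvd_of_le fun x hx => ?_))
    rw [hC, Subgroup.mem_centralizer_singleton_iff]
    by_cases hr2 : r = 2
    · subst hr2
      haveI : Unique (Sylow 2 (F M)) := Sylow.unique_of_normal Q inferInstance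
      rw [Subsingleton.elim R Q] at hx
      exact congrArg Subtype.val (Subgroup.mem_center_iff.1 z₀.2 ⟨x, hx⟩)
    · haveI : (R : Subgroup (F M)).Normal :=
        (Group.isNilpotent_of_finite_tfae.out 0 3 rfl rfl |>.mp (isNilpotent_core h.sys h.ns h.max)) r ⟨hr⟩ R
      exact (Subgroup.commute_of_normal_of_disjoint _ _ inferInstance inferInstance
        (IsPGroup.disjoint_of_ne r 2 hr2 _ _ R.isPGroup' Q.isPGroup') x z hx (z₀ : (Q : Subgroup (F M))).2).eq
  refine ⟨(z : G), z.2, by rw [Subgroup.orderOf_coe]; exact hz, fun f hf => ?_⟩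
  have : (⟨f, hf⟩ : F M) ∈ C := htop ▸ Subgroup.mem_top _
  exact congrArg Subtype.val (Subgroup.mem_centralizer_singleton_iff.1 this)

theorem exists_conj {y : G ⧸ M} (hy : y ≠ base M) {s t : G} (hs : orderOf s = 2) (hsM : s ∈ M)
    (ht : orderOf t = 2) (htM : t ∈ M) : ∃ d ∈ twoPt M y, d * s * d⁻¹ = t := by
  obtain ⟨d, h1, h2, h3⟩ := CfsgLib.StrongEmbedding.two_point_transitive h.se (Ne.symm hy) hs
    (mem_M_iff.1 hsM) ht (mem_M_iff.1 htM)
  exact ⟨d, ⟨h1, h2⟩, h3⟩

theorem conj_inj {y : G ⧸ M} (hy : y ≠ base M) {s d d' : G} (hs : orderOf s = 2) (hsM : s ∈ M)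
    (hd : d ∈ twoPt M y) (hd' : d' ∈ twoPt M y) (e : d * s * d⁻¹ = d' * s * d'⁻¹) : d = d' := by
  have hsF := involution_mem_core h.sys h.max h.even hsM hs
  have hc : d⁻¹ * d' ∈ F M := centralizer_le h.sys h.max hsF
    (fun e0 => by rw [e0, orderOf_one] at hs; omega) (Subgroup.mem_centralizer_singleton_iff.2 (by
      calc d⁻¹ * d' * s = d⁻¹ * (d' * s * d'⁻¹) * d' := by group
        _ = s * (d⁻¹ * d') := by rw [← e]; group))
  exact inv_mul_eq_one.1 (h.inf_eq_bot hy (mul_mem (inv_mem hd) hd') hc)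

theorem card_twoPt {y : G ⧸ M} (hy : y ≠ base M) :
    Nat.card (twoPt M y) = Nat.card {t : G // orderOf t = 2 ∧ t ∈ M} := by
  obtain ⟨s, hsF, hs, -⟩ := h.exists_central_involution
  have hsM : s ∈ M := h.core_le hsF
  refine Nat.card_eq_of_bijective (fun d => ⟨(d : G) * s * (d : G)⁻¹,
    by rw [orderOf_conj_eq, hs], M.mul_mem (M.mul_mem (mem_M_iff.2 d.2.1) hsM)
      (M.inv_mem (mem_M_iff.2 d.2.1))⟩) ⟨?_, ?_⟩
  · intro d d' e
    exact Subtype.ext (h.conj_inj hy hs hsM d.2 d'.2 (congrArg Subtype.val e))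
  · rintro ⟨t, ht, htM⟩
    obtain ⟨d, hd, e⟩ := h.exists_conj hy hs hsM ht htM
    exact ⟨⟨d, hd⟩, Subtype.ext e⟩

theorem decomp {y : G ⧸ M} (hy : y ≠ base M) {m : G} (hm : m ∈ M) :
    ∃ f ∈ F M, ∃ d ∈ twoPt M y, m = f * d := by
  obtain ⟨s, hsF, hs, hsc⟩ := h.exists_central_involution
  have hsM : s ∈ M := h.core_le hsF
  obtain ⟨d, hd, e⟩ := h.exists_conj hy hs hsM (t := m * s * m⁻¹) (by rw [orderOf_conj_eq, hs])
    (M.mul_mem (M.mul_mem hm hsM) (M.inv_mem hm))
  have hdM : d ∈ M := mem_M_iff.2 hd.1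
  have hc : d⁻¹ * m ∈ F M := centralizer_le h.sys h.max hsF
    (fun e0 => by rw [e0, orderOf_one] at hs; omega) (Subgroup.mem_centralizer_singleton_iff.2 (by
      calc d⁻¹ * m * s = d⁻¹ * (m * s * m⁻¹) * m := by group
        _ = s * (d⁻¹ * m) := by rw [← e]; group))
  exact ⟨d * (d⁻¹ * m) * d⁻¹, h.norm_mem hdM hc, d, hd, by group⟩

theorem odd_twoPt {y : G ⧸ M} (hy : y ≠ base M) : Odd (Nat.card (twoPt M y)) := by
  rw [← Nat.not_even_iff_odd]
  intro he
  obtain ⟨t, ht, ht2⟩ := CfsgLib.Involutions.exists_involution_of_even_card _ he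
  have := h.inf_eq_bot hy ht (involution_mem_core h.sys h.max h.even (mem_M_iff.2 ht.1) ht2)
  rw [this, orderOf_one] at ht2
  omega

theorem twoPt_ne_bot {y : G ⧸ M} (hy : y ≠ base M) : ∃ d ∈ twoPt M y, d ≠ 1 := by
  obtain ⟨x, hxM, hxF⟩ := SetLike.exists_of_lt (lt_maxSolv h.sys h.ns h.max)
  obtain ⟨f, hf, d, hd, rfl⟩ := h.decomp hy hxM
  exact ⟨d, hd, fun e => hxF (by rw [e, mul_one]; exact hf)⟩

theorem not_mem_core {y : G ⧸ M} (hy : y ≠ base M) {d : G} (hd : d ∈ twoPt M y) (hd1 : d ≠ 1) :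
    d ∉ F M := fun hF' => hd1 (h.inf_eq_bot hy hd hF')

/-- an involution exchanging the base point and `y` inverts the two-point stabiliser -/
theorem swap_inverts {y : G ⧸ M} (hy : y ≠ base M) {r : G} (hr : orderOf r = 2) (hry : r • base M = y)
    {d : G} (hd : d ∈ twoPt M y) : r * d * r⁻¹ = d⁻¹ := by
  have h2 : r * r = 1 := by rw [← sq, ← hr, pow_orderOf_eq_one]
  have hyr : r • y = base M := by rw [← hry, smul_smul, h2, one_smul]
  have hmem : ∀ i : {i : G // orderOf i = 2 ∧ i • base M = y}, r * i.1 ∈ twoPt M y := fun i => by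
    refine ⟨?_, ?_⟩
    · show (r * i.1) • base M = base M
      rw [mul_smul, i.2.2, hyr]
    · show (r * i.1) • y = y
      have hi : i.1 • y = base M :=
        (congrArg (i.1 • ·) i.2.2).symm.trans (CfsgLib.StrongEmbedding.smul_self_of_involution i.2.1 _)
      rw [mul_smul, hi, hry]
  have hbij : Function.Bijective fun i : {i : G // orderOf i = 2 ∧ i • base M = y} =>
      (⟨r * i.1, hmem i⟩ : twoPt M y) :=
    Function.Injective.bijective_of_nat_card_le
      (fun i j e => Subtype.ext (mul_left_cancel (congrArg Subtype.val e)))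
      (le_of_eq (by rw [h.card_twoPt hy, CfsgLib.StrongEmbedding.card_swapping h.se (Ne.symm hy)]))
  obtain ⟨i, hi⟩ := hbij.2 ⟨d, hd⟩
  have hi' : r * i.1 = d := congrArg Subtype.val hi
  have hii : i.1 * i.1 = 1 := by
    have := pow_orderOf_eq_one i.1
    rwa [i.2.1, sq] at this
  refine eq_inv_of_mul_eq_one_left ?_
  rw [← hi', inv_eq_of_mul_eq_one_right h2]
  calc r * (r * i.1) * r * (r * i.1) = (r * r) * i.1 * (r * r) * i.1 := by group
    _ = 1 := by rw [h2]; simp [hii]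

theorem exists_swap {y : G ⧸ M} (hy : y ≠ base M) : ∃ r : G, orderOf r = 2 ∧ r • base M = y := by
  have hne : Nonempty {i : G // orderOf i = 2 ∧ i • base M = y} := by
    rw [← not_isEmpty_iff]
    intro he
    obtain ⟨s, hsF, hs, -⟩ := h.exists_central_involution
    have := CfsgLib.StrongEmbedding.card_swapping h.se (Ne.symm hy)
    haveI : Nonempty {t : G // orderOf t = 2 ∧ t ∈ M} := ⟨⟨s, hs, h.core_le hsF⟩⟩
    have hc := CfsgLib.StrongEmbedding.card_swapping h.se (Ne.symm hy)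
    rw [Nat.card_of_isEmpty] at hc
    exact (Nat.card_pos (α := {t : G // orderOf t = 2 ∧ t ∈ M})).ne hc
  obtain ⟨r⟩ := hne
  exact ⟨r.1, r.2⟩

theorem comm_twoPt {y : G ⧸ M} (hy : y ≠ base M) {d e : G} (hd : d ∈ twoPt M y) (he : e ∈ twoPt M y) :
    d * e = e * d := by
  obtain ⟨r, hr, hry⟩ := h.exists_swap hy
  have e1 := h.swap_inverts hy hr hry (mul_mem hd he)
  have e2 : r * (d * e) * r⁻¹ = d⁻¹ * e⁻¹ := by
    rw [← h.swap_inverts hy hr hry hd, ← h.swap_inverts hy hr hry he]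
    group
  rw [e2, mul_inv_rev] at e1
  calc d * e = (e⁻¹ * d⁻¹)⁻¹ := by group
    _ = (d⁻¹ * e⁻¹)⁻¹ := by rw [e1]
    _ = e * d := by group

theorem centralizer_inf {y : G ⧸ M} (hy : y ≠ base M) {d m : G} (hd : d ∈ twoPt M y) (hd1 : d ≠ 1)
    (hm : m ∈ M) (hc : m * d = d * m) : m ∈ twoPt M y := by
  obtain ⟨f, hf, d', hd', rfl⟩ := h.decomp hy hm
  have hfd : f * d = d * f := by
    have := h.comm_twoPt hy hd hd'
    apply mul_right_cancel (b := d')
    calc f * d * d' = f * (d' * d) := by rw [mul_assoc, this]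
      _ = d * (f * d') := by rw [← mul_assoc, hc]
      _ = d * f * d' := by group
  rw [h.commute_free (mem_M_iff.2 hd.1) (h.not_mem_core hy hd hd1) hf hfd, one_mul]
  exact hd'

theorem twoPt_eq_of_fix {y z : G ⧸ M} (hy : y ≠ base M) (hz : z ≠ base M) {d : G}
    (hd : d ∈ twoPt M y) (hd1 : d ≠ 1) (hdz : d • z = z) : twoPt M z = twoPt M y := by
  refine Subgroup.eq_of_le_of_card_ge (fun e he => ?_) (le_of_eq (by rw [h.card_twoPt hy, h.card_twoPt hz]))
  exact h.centralizer_inf hy hd hd1 (mem_M_iff.2 he.1) (h.comm_twoPt hz he ⟨hd.1, hdz⟩)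

/-- a non-trivial element of a two-point stabiliser fixes only two points -/
theorem fix_two {y z : G ⧸ M} (hy : y ≠ base M) {d : G} (hd : d ∈ twoPt M y) (hd1 : d ≠ 1)
    (hdz : d • z = z) : z = base M ∨ z = y := by
  by_contra! hc
  obtain ⟨hz, hzy⟩ := hc
  have hD := h.twoPt_eq_of_fix hy hz hd hd1 hdz
  obtain ⟨ry, hry2, hry⟩ := h.exists_swap hy
  obtain ⟨rz, hrz2, hrz⟩ := h.exists_swap hz
  have sw : ∀ {r : G} {x : G ⧸ M}, orderOf r = 2 → r • base M = x → r • x = base M := fun hr e => by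
    rw [← e]; exact CfsgLib.StrongEmbedding.smul_self_of_involution hr _
  set w := rz • y with hw
  have hrz' : ∀ e ∈ twoPt M y, rz * e * rz⁻¹ = e⁻¹ := fun e he =>
    h.swap_inverts hz hrz2 hrz (hD ▸ he)
  have hwb : w ≠ base M := fun e => hzy (by
    have := MulAction.injective rz (e.trans (sw hrz2 hrz).symm)
    exact this.symm)
  have hdw : d • w = w := by
    have e1 := hrz' d⁻¹ (inv_mem hd)
    rw [inv_inv] at e1
    rw [hw, ← e1, mul_smul, mul_smul, inv_smul_smul]
    congr 1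
    exact inv_smul_eq_iff.2 hd.2.symm
  have hDw := h.twoPt_eq_of_fix hy hwb hd hd1 hdw
  obtain ⟨rw', hrw2, hrw⟩ := h.exists_swap hwb
  -- the product maps the base point to `y` and centralises the two-point stabiliser
  set c := ry * rw' * (rz * ry) with hc
  have hcb : c • base M = y := by
    rw [hc, mul_smul, mul_smul, mul_smul, hry, ← hw, sw hrw2 hrw, hry]
  have hcd : c * d = d * c := by
    have conj_mem : ∀ {r : G} {x : G ⧸ M}, x ≠ base M → orderOf r = 2 → r • base M = x →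
        twoPt M x = twoPt M y → r * d * r⁻¹ = d⁻¹ ∧ r * d⁻¹ * r⁻¹ = d := fun hx hr e hxy =>
      ⟨h.swap_inverts hx hr e (hxy ▸ hd), by
        have := h.swap_inverts hx hr e (hxy ▸ inv_mem hd)
        rwa [inv_inv] at this⟩
    have a1 := conj_mem hy hry2 hry rfl
    have a2 := conj_mem hz hrz2 hrz hD
    have a3 := conj_mem hwb hrw2 hrw hDw
    have : c * d * c⁻¹ = d := by
      calc c * d * c⁻¹ = ry * (rw' * (rz * (ry * d * ry⁻¹) * rz⁻¹) * rw'⁻¹) * ry⁻¹ := by
            rw [hc]; group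
        _ = d := by rw [a1.1, a2.2, a3.1, a1.2]
    exact mul_inv_eq_iff_eq_mul.1 this
  -- `c⁻¹ ry` fixes the base point and inverts `d`
  set m := c⁻¹ * ry with hm
  have hmM : m ∈ M := mem_M_iff.2 (by
    rw [hm, mul_smul, hry, inv_smul_eq_iff, hcb])
  have hmd : m * d * m⁻¹ = d⁻¹ := by
    have e1 := h.swap_inverts hy hry2 hry hd
    have e2 : c⁻¹ * d⁻¹ * c = d⁻¹ := by
      rw [mul_assoc, ← (show Commute c d from hcd).inv_right.eq, inv_mul_cancel_left]
    calc m * d * m⁻¹ = c⁻¹ * (ry * d * ry⁻¹) * c := by rw [hm]; group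
      _ = d⁻¹ := by rw [e1, e2]
  obtain ⟨f, hf, d', hd', hmfd⟩ := h.decomp hy hmM
  have hfd : f * d * f⁻¹ = d⁻¹ := by
    rw [← hmd, hmfd]
    calc f * d * f⁻¹ = f * (d * d' * d'⁻¹) * f⁻¹ := by group
      _ = f * d' * d * (f * d')⁻¹ := by rw [h.comm_twoPt hy hd hd']; group
  -- hence `d² ∈ F M`
  have hF2 : d⁻¹ * d⁻¹ ∈ F M := by
    have e1 : f * (d * f⁻¹ * d⁻¹) = d⁻¹ * d⁻¹ := by
      calc f * (d * f⁻¹ * d⁻¹) = (f * d * f⁻¹) * d⁻¹ := by group
        _ = _ := by rw [hfd]
    rw [← e1]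
    exact mul_mem hf (h.norm_mem (mem_M_iff.2 hd.1) (inv_mem hf))
  have hdd : d * d = 1 := by
    have := h.inf_eq_bot hy (mul_mem (inv_mem hd) (inv_mem hd)) hF2
    rwa [← mul_inv_rev, inv_eq_one] at this
  have hord : orderOf d = 2 := orderOf_eq_prime (by rw [sq, hdd]) hd1
  have := h.odd_twoPt hy
  exact (Nat.not_even_iff_odd.2 this) (CfsgLib.Involutions.even_card_of_involution_mem hd hord)

/-- the two-point stabilisers are complements of `F M` in `M` -/
theorem isFrobeniusComplement_twoPt {y : G ⧸ M} (hy : y ≠ base M) :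
    Cfsg.IsFrobeniusComplement ((twoPt M y).subgroupOf M) := by
  haveI : ((F M).subgroupOf M).Normal := Subgroup.normal_subgroupOf_of_le_normalizer (h.sys M h.max).2.1
  have hc : ((F M).subgroupOf M).IsComplement' ((twoPt M y).subgroupOf M) := by
    refine Subgroup.isComplement'_of_disjoint_and_mul_eq_univ ?_ ?_
    · rw [Subgroup.disjoint_def]
      intro x hx hx'
      exact Subtype.ext (h.inf_eq_bot hy hx' hx)
    · refine Set.eq_univ_of_forall fun x => ?_
      obtain ⟨f, hf, d, hd, e⟩ := h.decomp hy x.2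
      exact ⟨⟨f, h.core_le hf⟩, hf, ⟨d, mem_M_iff.2 hd.1⟩, hd, Subtype.ext e.symm⟩
  refine CfsgLib.Frobenius.isFrobeniusComplement_of_normal_complement hc ?_ ?_ fun d hd hd1 k hk e => ?_
  · intro e
    obtain ⟨s, hsF, hs, -⟩ := h.exists_central_involution
    have := eq_one_of_eq_bot e (g := ⟨s, h.core_le hsF⟩) hsF
    rw [show s = 1 from congrArg Subtype.val this, orderOf_one] at hs
    omega
  · intro e
    obtain ⟨d, hd, hd1⟩ := h.twoPt_ne_bot hy
    exact hd1 (congrArg Subtype.val (eq_one_of_eq_bot e (g := ⟨d, mem_M_iff.2 hd.1⟩) hd))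
  · exact Subtype.ext (h.commute_free d.2 (h.not_mem_core hy hd fun e1 => hd1 (Subtype.ext e1)) hk
      (congrArg Subtype.val e).symm)

/-- `F M` is regular on the other points -/
theorem regular {y z : G ⧸ M} (hy : y ≠ base M) (hz : z ≠ base M) :
    ∃! f : F M, (f : G) • y = z := by
  obtain ⟨m, hm⟩ := CfsgLib.Frobenius.exists_conj_eq (h.isFrobeniusComplement_twoPt hz)
    (h.isFrobeniusComplement_twoPt hy)
  obtain ⟨f, hf, d₀, hd₀, hfd⟩ := h.decomp hy m.2
  have hfM : f • base M = base M := mem_M_iff.1 (h.core_le hf)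
  obtain ⟨d, hd, hd1⟩ := h.twoPt_ne_bot hy
  have hdm : d ∈ M := mem_M_iff.2 hd.1
  have hmem : f * d * f⁻¹ ∈ twoPt M z := by
    have h1 : m * ⟨d, hdm⟩ * m⁻¹ ∈ (twoPt M z).subgroupOf M := by
      rw [← hm]
      refine CfsgLib.Frobenius.mem_conj_smul_iff.2 ?_
      show ((m⁻¹ * (m * ⟨d, hdm⟩ * m⁻¹) * m : M) : G) ∈ twoPt M y
      rw [show m⁻¹ * (m * ⟨d, hdm⟩ * m⁻¹) * m = (⟨d, hdm⟩ : M) by group]
      exact hd
    have h2 : (m : G) * d * (m : G)⁻¹ ∈ twoPt M z := h1
    rwa [hfd, show f * d₀ * d * (f * d₀)⁻¹ = f * (d₀ * d * d₀⁻¹) * f⁻¹ by group,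
      h.comm_twoPt hy hd₀ hd, mul_inv_cancel_right] at h2
  have hne : f * d * f⁻¹ ≠ 1 := fun e => hd1 (conj_eq_one_iff.1 e)
  have hfix : (f * d * f⁻¹) • (f • y) = f • y := by
    rw [mul_smul, mul_smul, inv_smul_smul, hd.2]
  have hex : f • y = z := by
    rcases h.fix_two hz hmem hne hfix with e | e
    · exact absurd (MulAction.injective f (e.trans hfM.symm)) hy
    · exact e
  refine ⟨⟨f, hf⟩, hex, fun f' hf' => ?_⟩
  have h1 : f⁻¹ * f' ∈ twoPt M y := ⟨mem_M_iff.1 (M.mul_mem (M.inv_mem (h.core_le hf)) (h.core_le f'.2)),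
    by
      show (f⁻¹ * (f' : G)) • y = y
      rw [mul_smul, hf', ← hex, inv_smul_smul]⟩
  exact Subtype.ext (inv_mul_eq_one.1 (h.inf_eq_bot hy h1 (mul_mem (inv_mem hf) f'.2))).symm

theorem exists_ne_base : ∃ y : G ⧸ M, y ≠ base M := by
  obtain ⟨g, hg⟩ : ∃ g, g ∉ M := by
    by_contra! hall
    exact h.se.1 ((Subgroup.eq_top_iff' M).2 hall)
  exact ⟨((g : G) : G ⧸ M), fun e => hg (mem_M_iff.2 (by
    rw [MulAction.Quotient.smul_mk, smul_eq_mul, mul_one]; exact e))⟩

theorem card_quotient : Nat.card (F M) + 1 = Nat.card (G ⧸ M) := by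
  classical
  obtain ⟨y, hy⟩ := h.exists_ne_base
  haveI := Fintype.ofFinite (G ⧸ M)
  have hb : Function.Bijective fun f : F M => (⟨(f : G) • y, fun e => hy (MulAction.injective (f : G)
      (e.trans (mem_M_iff.1 (h.core_le f.2)).symm))⟩ : {z : G ⧸ M // ¬ z = base M}) := by
    constructor
    · intro f f' e
      obtain ⟨x, -, hx⟩ := h.regular hy (fun e0 => hy (MulAction.injective (f : G)
        (e0.trans (mem_M_iff.1 (h.core_le f.2)).symm)) : (f : G) • y ≠ base M)
      exact (hx f rfl).trans (hx f' (congrArg Subtype.val e).symm).symm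
    · rintro ⟨z, hz⟩
      obtain ⟨f, hf, -⟩ := h.regular hy hz
      exact ⟨f, Subtype.ext hf⟩
  rw [Nat.card_eq_of_bijective _ hb, Nat.card_eq_fintype_card, Fintype.card_subtype_compl,
    Fintype.card_subtype_eq, Nat.card_eq_fintype_card]
  have := Fintype.card_pos_iff.2 ⟨base M⟩
  omega

theorem faithful : FaithfulSMul G (G ⧸ M) := by
  refine ⟨fun {g₁ g₂} (e : ∀ z : G ⧸ M, g₁ • z = g₂ • z) => inv_mul_eq_one.1 ?_⟩
  have hall : ∀ z : G ⧸ M, (g₁⁻¹ * g₂) • z = z := fun z => by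
    rw [mul_smul, ← e z, inv_smul_smul]
  obtain ⟨y, hy⟩ := h.exists_ne_base
  by_contra hne
  obtain ⟨f, hf, hf1⟩ : ∃ f : F M, (f : G) • y ≠ base M ∧ (f : G) • y ≠ y := by
    obtain ⟨s, hsF, hs, -⟩ := h.exists_central_involution
    refine ⟨⟨s, hsF⟩, fun e0 => hy (MulAction.injective s (e0.trans (mem_M_iff.1 (h.core_le hsF)).symm)),
      fun e0 => ?_⟩
    have := h.inf_eq_bot hy ⟨mem_M_iff.1 (h.core_le hsF), e0⟩ hsF
    rw [this, orderOf_one] at hs
    omega
  rcases h.fix_two hy ⟨hall _, hall _⟩ hne (hall ((f : G) • y)) with e | e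
  · exact hf e
  · exact hf1 e

theorem two_transitive : IsMultiplyPretransitive G (G ⧸ M) 2 := by
  rw [is_two_pretransitive_iff]
  intro a b c d hab hcd
  obtain ⟨g, hg⟩ := MulAction.exists_smul_eq G a (base M)
  obtain ⟨g', hg'⟩ := MulAction.exists_smul_eq G (base M) c
  have h1 : g • b ≠ base M := fun e => hab (MulAction.injective g (hg.trans e.symm))
  have h2 : g'⁻¹ • d ≠ base M := fun e => hcd (by rw [← hg', ← e, smul_inv_smul])
  obtain ⟨f, hf, -⟩ := h.regular h1 h2
  refine ⟨g' * f * g, ?_, ?_⟩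
  · rw [mul_smul, mul_smul, hg, mem_M_iff.1 (h.core_le f.2), hg']
  · rw [mul_smul, mul_smul, hf, smul_inv_smul]

theorem zassenhaus : Cfsg.IsZassenhausGroup G (G ⧸ M) := by
  haveI := h.faithful
  haveI := h.two_transitive
  refine ⟨inferInstance, inferInstance, fun g a b c hab hbc hac ha hb hc => ?_, ?_, fun N hN hNt => ?_⟩
  · by_contra hg
    obtain ⟨k, hk⟩ := MulAction.exists_smul_eq G a (base M)
    have e : ∀ z : G ⧸ M, g • z = z → (k * g * k⁻¹) • (k • z) = k • z := fun z hz => by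
      rw [mul_smul, mul_smul, inv_smul_smul, hz]
    have hy : k • b ≠ base M := fun e0 => hab (MulAction.injective k (hk.trans e0.symm))
    have hd : k * g * k⁻¹ ∈ twoPt M (k • b) := ⟨by
      have := e a ha
      rwa [hk] at this, e b hb⟩
    rcases h.fix_two hy hd (fun e0 => hg (conj_eq_one_iff.1 e0))
      (e c hc) with e1 | e1
    · exact hac (MulAction.injective k (hk.trans e1.symm))
    · exact hbc (MulAction.injective k e1.symm)
  · obtain ⟨y, hy⟩ := h.exists_ne_base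
    obtain ⟨d, hd, hd1⟩ := h.twoPt_ne_bot hy
    exact ⟨d, hd1, base M, y, Ne.symm hy, hd.1, hd.2⟩
  · by_contra! hall
    have hcard : Nat.card N = Nat.card (G ⧸ M) := by
      haveI := hNt
      rw [← Subgroup.index_bot, ← hall (base M), index_stabilizer_of_transitive]
    have hodd : Odd (Nat.card N) := by
      rw [hcard, ← h.card_quotient]
      exact h.even.add_one
    haveI := hN
    have hNb := normal_solvable_eq_bot h.sys h.ns (CfsgLib.PF.oddSolvable N hodd)
    obtain ⟨y, hy⟩ := h.exists_ne_base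
    obtain ⟨⟨n, hn⟩, hny⟩ := (hNt).exists_smul_eq (base M) y
    have : n = 1 := eq_one_of_eq_bot hNb hn
    subst this
    exact hy (by simpa [Subgroup.smul_def] using hny.symm)

end Even'

end CfsgLib.Suzuki.FrobSystem
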