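import Mathlib
import Cfsg.Agent.Lib.Suzuki.FrobSystem.Action
import Cfsg.Agent.Lib.Suzuki.Recognition.Zassenhaus
import Cfsg.Agent.Lib.StrongEmbedding.PSLTwo
import Cfsg.Agent.Lib.BrauerArtin.Main
import Cfsg.Agent.Lib.Zass29.Normal
import Cfsg.Agent.S0738

/-!
# Groups with a Frobenius system
-/

set_option autoImplicit false
set_option linter.style.haveILetI false

namespace CfsgLib.Suzuki.FrobSystem

open scoped Pointwise
open MulAction

universe u

variable {G : Type u} [Group G] [Finite G] {F : Subgroup G → Subgroup G}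

/-- a non-solvable group with a Frobenius system is `SL₂(2ⁿ)` or a Suzuki group -/
theorem classify (hF : IsSystem F) (hns : ¬ Group.IsSolvable G) :
    (∃ (K : Type) (_ : Field K) (_ : Fintype K), (∃ n : ℕ, 2 ≤ n ∧ Fintype.card K = 2 ^ n) ∧
        Nonempty (G ≃* Matrix.SpecialLinearGroup (Fin 2) K)) ∨
      Cfsg.Lie.IsoSuzuki G := by
  classical
  haveI : Fact (Nat.Prime 2) := ⟨Nat.prime_two⟩
  obtain ⟨M, hM, he⟩ := exists_even hF hns
  have h : Even' F M := ⟨hF, hns, hM, he⟩
  haveI := Fintype.ofFinite (G ⧸ M)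
  haveI := Fintype.ofFinite G
  have hZ := h.zassenhaus
  obtain ⟨y, hy⟩ := h.exists_ne_base
  have hxy : base M ≠ y := Ne.symm hy
  have hodd : Odd (Nat.card (CfsgLib.PermSmall.Zassenhaus.pairStab G (base M) y)) := h.odd_twoPt hy
  have hcard : Nat.card (F M) + 1 = Fintype.card (G ⧸ M) := by
    rw [h.card_quotient, Nat.card_eq_fintype_card]
  haveI : IsSimpleGroup G := CfsgLib.Zass29.isSimpleGroup_of_odd hZ (hcard ▸ he.add_one)
  have hle : F M ≤ stabilizer G (base M) := by rw [stab_base]; exact h.core_le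
  have hfix : ∀ f ∈ F M, f ≠ 1 → ∀ c : G ⧸ M, f • c = c → c = base M := fun f hf hf1 c hc => by
    by_contra hcb
    exact hf1 (h.inf_eq_bot hcb ⟨mem_M_iff.1 (h.core_le hf), hc⟩ hf)
  rcases CfsgLib.Zass29.FeitThm.feit hZ hxy hodd (F M) hle hcard hfix with hd | ⟨h2, hna, -⟩
  swap
  · exact Or.inr (CfsgLib.Suzuki.Recognition.isoSuzuki_of_translations hZ hxy hodd (F M) hle hcard hfix h2 hna)
  left
  have hn : ((F M).subgroupOf (stabilizer G (base M))).Normal :=
    Subgroup.normal_subgroupOf_of_le_normalizer (by rw [stab_base]; exact (hF M hM).2.1)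
  obtain ⟨hab, p, f, hp, hexp, hΩ⟩ := Cfsg.Agent.S0738.result hZ hxy hd (F M) hle hn
    (fun a b ha hb => h.regular ha hb)
  have hcF : Nat.card (F M) = p ^ f := by omega
  obtain rfl : p = 2 := by
    have h2 : 2 ∣ p ^ f := hcF ▸ he.two_dvd
    exact ((Nat.prime_dvd_prime_iff_eq Nat.prime_two hp).1 (Nat.prime_two.dvd_of_dvd_pow h2)).symm
  have hf0 : f ≠ 0 := fun e => by
    rw [e, pow_zero] at hcF
    rw [hcF] at he
    exact absurd he (by decide)
  have hidx : ¬ 2 ∣ (F M).index := fun hd2 =>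
    Nat.Prime.not_coprime_iff_dvd.2 ⟨2, Nat.prime_two, he.two_dvd, hd2⟩ (coprime_core hF hM)
  let T : Sylow 2 G := (IsPGroup.of_card (p := 2) (n := f) hcF).toSylow hidx
  have hT : (T : Subgroup G) = F M := IsPGroup.toSylow_coe _ _
  have hC : ∀ t : G, orderOf t = 2 → IsMulCommutative (Subgroup.centralizer ({t} : Set G)) ∧
      ∀ c ∈ Subgroup.centralizer ({t} : Set G), c ^ 2 = 1 := by
    intro t ht
    obtain ⟨x, hx⟩ := CfsgLib.StrongEmbedding.exists_fixed h.se ht
    obtain ⟨g, rfl⟩ := QuotientGroup.mk_surjective x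
    have htM : g⁻¹ * t * g ∈ M := CfsgLib.Involutions.smul_coset_eq_iff.1 hx
    have ht' : orderOf (g⁻¹ * t * g) = 2 := by
      simpa using (CfsgLib.Involutions.orderOf_conj_eq g⁻¹ t).trans ht
    have htF := involution_mem_core hF hM he htM ht'
    have hmem : ∀ c ∈ Subgroup.centralizer ({t} : Set G), g⁻¹ * c * g ∈ F M := fun c hc =>
      centralizer_le hF hM htF (fun e => by rw [e, orderOf_one] at ht'; omega)
        (Subgroup.mem_centralizer_singleton_iff.2 (by
          rw [Subgroup.mem_centralizer_singleton_iff] at hc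
          calc g⁻¹ * c * g * (g⁻¹ * t * g) = g⁻¹ * (c * t) * g := by group
            _ = g⁻¹ * t * g * (g⁻¹ * c * g) := by rw [hc]; group))
    refine ⟨⟨⟨fun c d => Subtype.ext ?_⟩⟩, fun c hc => ?_⟩
    · have e := congrArg (fun x : F M => g * (x : G) * g⁻¹)
        (hab.is_comm.comm ⟨_, hmem c c.2⟩ ⟨_, hmem d d.2⟩)
      simp only [Subgroup.coe_mul] at e
      calc (c : G) * d = g * (g⁻¹ * c * g * (g⁻¹ * d * g)) * g⁻¹ := by group
        _ = _ := e
        _ = (d : G) * c := by group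
    · have e := hexp _ (hmem c hc)
      rw [show g⁻¹ * c * g = g⁻¹ * c * g⁻¹⁻¹ by rw [inv_inv], conj_pow] at e
      exact conj_eq_one_iff.1 e
  have hnn : ¬ (T : Subgroup G).Normal := fun hnorm => by
    rw [hT] at hnorm
    haveI := hnorm
    exact ne_bot hF hns hM (normal_solvable_eq_bot hF hns
      (Group.isSolvable_of_comm fun a b => hab.is_comm.comm a b))
  have hnc : ¬ IsCyclic (T : Subgroup G) := fun hc => by
    rw [hT] at hc
    haveI := hc
    obtain ⟨x, hx⟩ := IsCyclic.exists_ofOrder_eq_natCard (α := F M)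
    have h2 : orderOf x ∣ 2 := orderOf_dvd_of_pow_eq_one (Subtype.ext (by
      rw [SubmonoidClass.coe_pow]; exact hexp x x.2))
    rw [hx, hcF] at h2
    have h3 : 2 ^ f ≤ 2 ^ 1 := by simpa using Nat.le_of_dvd (by norm_num) h2
    have h4 := (Nat.pow_le_pow_iff_right (by norm_num : 1 < 2)).1 h3
    have hk : 1 < Nat.card (twoPt M y) := by
      obtain ⟨d, hd, hd1⟩ := h.twoPt_ne_bot hy
      haveI : Nontrivial (twoPt M y) := ⟨⟨⟨d, hd⟩, 1, fun e => hd1 (congrArg Subtype.val e)⟩⟩
      exact Finite.one_lt_card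
    have hinj : Nat.card {t : G // orderOf t = 2 ∧ t ∈ M} ≤ Nat.card {x : F M // x ≠ 1} :=
      Nat.card_le_card_of_injective
        (fun t => ⟨⟨t.1, involution_mem_core hF hM he t.2.2 t.2.1⟩, fun e => by
          have := t.2.1
          rw [show t.1 = 1 from congrArg Subtype.val e, orderOf_one] at this
          omega⟩)
        fun s t e => Subtype.ext (by simpa using congrArg (fun x => ((x.1 : F M) : G)) e)
    rw [← h.card_twoPt hy] at hinj
    haveI := Fintype.ofFinite (F M)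
    rw [Nat.card_eq_fintype_card (α := {x : F M // x ≠ 1}), Fintype.card_subtype_compl,
      Fintype.card_subtype_eq, ← Nat.card_eq_fintype_card, hcF] at hinj
    obtain rfl : f = 1 := by omega
    rw [pow_one] at hinj
    omega
  obtain ⟨K, iK, fK, hK, ⟨e⟩⟩ := CfsgLib.StrongEmbedding.PSLTwo.exists_psl (T := T) ⟨hnc, hnn, hC⟩
  rw [hT, hcF] at hK
  obtain ⟨e'⟩ := CfsgLib.BrauerArtin.exists_psl_equiv_sl K (Nat.pos_of_ne_zero hf0) hK
  refine ⟨K, iK, fK, ⟨f, ?_, hK⟩, ⟨e.trans e'⟩⟩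
  by_contra hlt
  have hf1 : f = 1 := by omega
  subst hf1
  exact hnc (hT ▸ isCyclic_of_prime_card (p := 2) (by rw [hcF, pow_one]))

end CfsgLib.Suzuki.FrobSystem
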